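import Groth.Agent.DimTheory.Fibre
import Mathlib.RingTheory.Ideal.KrullsHeightTheorem
import Mathlib.AlgebraicGeometry.Noetherian
import Mathlib.AlgebraicGeometry.Morphisms.FiniteType

/-!
# The dimension of the source is at most the dimension of the base plus that of the fibres
-/

set_option autoImplicit false

universe u

open CategoryTheory CategoryTheory.Limits AlgebraicGeometry TopologicalSpace Topology

namespace Groth.Agent.LeadDim

/-- For a subspace of a prime spectrum, chains of primes bound the topological dimension below. -/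
theorem krullDim_le_topologicalKrullDim {S : Type u} [CommRing S] (Z : Set (PrimeSpectrum S)) :
    Order.krullDim Z ≤ topologicalKrullDim Z := by
  rw [← Order.krullDim_orderDual]
  refine Order.krullDim_le_of_strictMono
    (fun q : Zᵒᵈ => (⟨closure {OrderDual.ofDual q}, isIrreducible_singleton.closure,
      isClosed_closure⟩ : IrreducibleCloseds Z)) ?_
  intro a b hab
  have h : (OrderDual.ofDual b : Z).1 < (OrderDual.ofDual a : Z).1 := hab
  have hsp : (OrderDual.ofDual b : Z) ⤳ OrderDual.ofDual a :=
    (IsInducing.subtypeVal.specializes_iff).1 ((PrimeSpectrum.le_iff_specializes _ _).1 h.le)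
  refine lt_of_le_not_ge (specializes_iff_closure_subset.1 hsp) fun h' => ?_
  have h2 : (OrderDual.ofDual a : Z) ⤳ OrderDual.ofDual b := specializes_iff_closure_subset.2 h'
  exact h.not_ge ((PrimeSpectrum.le_iff_specializes _ _).2 (h2.map continuous_subtype_val))

/-- Height in a finite type algebra is bounded by the height below plus the fibre dimension. -/
theorem height_le_add {R S : Type u} [CommRing R] [CommRing S] [IsNoetherianRing R] [IsNoetherianRing S] [Algebra R S]
    (n : ℕ)
    (h : ∀ p : PrimeSpectrum R,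
      topologicalKrullDim (PrimeSpectrum.comap (algebraMap R S) ⁻¹' {p} : Set (PrimeSpectrum S)) ≤ n)
    (P : Ideal S) [P.IsPrime] : P.height ≤ (P.under R).height + n := by
  refine (Ideal.height_le_height_add_of_liesOver (P.under R) P).trans (add_le_add le_rfl ?_)
  set J := (P.under R).map (algebraMap R S)
  have hJP : J ≤ P := Ideal.map_comap_le
  have : (P.map (Ideal.Quotient.mk J)).IsPrime :=
    Ideal.map_isPrime_of_surjective Ideal.Quotient.mk_surjective (by rwa [Ideal.mk_ker])
  rw [PrimeSpectrum.height_eq_orderHeight ⟨P.map (Ideal.Quotient.mk J), this⟩ |>.trans rfl]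
  refine Order.height_le fun l hl => ?_
  let p : PrimeSpectrum R := ⟨P.under R, inferInstance⟩
  let Z : Set (PrimeSpectrum S) := PrimeSpectrum.comap (algebraMap R S) ⁻¹' {p}
  have hmem : ∀ i, PrimeSpectrum.comap (Ideal.Quotient.mk J) (l i) ∈ Z := by
    intro i
    refine PrimeSpectrum.ext (le_antisymm ?_ ?_)
    · intro r hr
      have h1 : Ideal.Quotient.mk J (algebraMap R S r) ∈ (l i).asIdeal := hr
      have h2 : Ideal.Quotient.mk J (algebraMap R S r) ∈ P.map (Ideal.Quotient.mk J) := by
        have hle : (l i).asIdeal ≤ l.last.asIdeal := l.monotone (Fin.le_last i)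
        rw [hl] at hle
        exact hle h1
      have h3 : algebraMap R S r ∈ P := by
        have := Ideal.mem_comap.2 h2
        rwa [Ideal.comap_map_of_surjective _ Ideal.Quotient.mk_surjective, ← RingHom.ker_eq_comap_bot,
          Ideal.mk_ker, sup_eq_left.2 hJP] at this
      exact h3
    · intro r hr
      show Ideal.Quotient.mk J (algebraMap R S r) ∈ (l i).asIdeal
      rw [Ideal.Quotient.eq_zero_iff_mem.2 (Ideal.mem_map_of_mem _ hr)]
      exact zero_mem _
  let l' : LTSeries Z :=
    { length := l.length
      toFun := fun i => ⟨_, hmem i⟩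
      step := fun i => by
        show PrimeSpectrum.comap _ _ < PrimeSpectrum.comap _ _
        have hlt : (l i.castSucc).asIdeal < (l i.succ).asIdeal := l.step i
        show (l i.castSucc).asIdeal.comap (Ideal.Quotient.mk J) <
          (l i.succ).asIdeal.comap (Ideal.Quotient.mk J)
        exact lt_of_le_not_ge (Ideal.comap_mono hlt.le) fun hge => hlt.not_ge <| by
          intro x hx
          obtain ⟨y, rfl⟩ := Ideal.Quotient.mk_surjective (I := J) x
          exact hge hx }
  have h2 := (Order.LTSeries.length_le_krullDim l').trans ((krullDim_le_topologicalKrullDim Z).trans (h p))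
  exact_mod_cast h2

theorem ringKrullDim_le_add {R S : Type u} [CommRing R] [CommRing S] [IsNoetherianRing R] [IsNoetherianRing S]
    [Algebra R S] (n : ℕ)
    (h : ∀ p : PrimeSpectrum R,
      topologicalKrullDim (PrimeSpectrum.comap (algebraMap R S) ⁻¹' {p} : Set (PrimeSpectrum S)) ≤ n) :
    ringKrullDim S ≤ ringKrullDim R + n := by
  rw [ringKrullDim, Order.krullDim_eq_iSup_height]
  refine iSup_le fun P => ?_
  rw [← PrimeSpectrum.height_eq_orderHeight]
  refine (WithBot.coe_le_coe.2 (height_le_add n h P.asIdeal)).trans ?_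
  rw [WithBot.coe_add]
  exact add_le_add Ideal.height_le_ringKrullDim_of_isPrime le_rfl

theorem topologicalKrullDim_le_iff_affine {X : Scheme.{u}} (c : WithBot ℕ∞)
    (h : ∀ x : X, ∃ U : X.Opens, x ∈ U ∧ topologicalKrullDim U ≤ c) :
    topologicalKrullDim X ≤ c := by
  refine le_of_eq_of_le (Order.krullDim_eq_of_orderIso irreducibleSetEquivPoints) ?_
  refine iSup_le fun l => ?_
  obtain ⟨U, hxU, hU⟩ := h l.head
  have hmem : ∀ i, l i ∈ U := fun i =>
    (show l i ⤳ l.head from l.monotone (Fin.zero_le i)).mem_open U.isOpen hxU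
  let l' : LTSeries (U : Scheme.{u}) :=
    { length := l.length
      toFun := fun i => ⟨l i, hmem i⟩
      step := fun i => by
        have := l.step i
        exact lt_of_le_not_ge ((IsInducing.subtypeVal.specializes_iff).1 this.le)
          fun hge => this.not_ge (Specializes.map hge continuous_subtype_val) }
  refine le_trans ?_ hU
  refine le_of_le_of_eq (Order.LTSeries.length_le_krullDim l') ?_
  exact (Order.krullDim_eq_of_orderIso irreducibleSetEquivPoints).symm

theorem topologicalKrullDim_le_add {X Y : Scheme.{u}} (f : X ⟶ Y) [IsLocallyNoetherian Y]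
    [LocallyOfFiniteType f] (n : ℕ) (h : ∀ y : Y, topologicalKrullDim (f.fiber y) ≤ n) :
    topologicalKrullDim X ≤ topologicalKrullDim Y + n := by
  refine topologicalKrullDim_le_iff_affine _ fun x => ?_
  obtain ⟨V, hV, hxV, -⟩ := exists_isAffineOpen_mem_and_subset (U := ⊤) (x := f x) (by simp)
  obtain ⟨U, hU, hxU, hUV⟩ :=
    exists_isAffineOpen_mem_and_subset (show x ∈ (f ⁻¹ᵁ V : X.Opens) from hxV)
  refine ⟨U, hxU, ?_⟩
  have e : U ≤ f ⁻¹ᵁ V := hUV
  have hN : IsNoetherianRing Γ(Y, V) := IsLocallyNoetherian.component_noetherian ⟨V, hV⟩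
  have hft : (f.appLE V U e).hom.FiniteType := f.finiteType_appLE hV hU e
  algebraize [(f.appLE V U e).hom]
  have : IsNoetherianRing Γ(X, U) := Algebra.FiniteType.isNoetherianRing Γ(Y, V) Γ(X, U)
  have hU' : topologicalKrullDim U = ringKrullDim Γ(X, U) := by
    rw [← PrimeSpectrum.topologicalKrullDim_eq_ringKrullDim]
    exact hU.isoSpec.hom.homeomorph.isHomeomorph.topologicalKrullDim_eq _
  have hV' : ringKrullDim Γ(Y, V) ≤ topologicalKrullDim Y := by
    rw [← PrimeSpectrum.topologicalKrullDim_eq_ringKrullDim]
    exact hV.fromSpec.isOpenEmbedding.isInducing.topologicalKrullDim_le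
  rw [hU']
  refine (ringKrullDim_le_add (R := Γ(Y, V)) n fun p => ?_).trans (add_le_add hV' le_rfl)
  refine le_trans ?_ (h (hV.fromSpec p))
  rw [← DimTheory.fiber_dim_eq]
  let i : (PrimeSpectrum.comap (algebraMap Γ(Y, V) Γ(X, U)) ⁻¹' {p} : Set (PrimeSpectrum Γ(X, U))) →
      (f.base ⁻¹' {hV.fromSpec p} : Set X) :=
    Set.MapsTo.restrict (fun q => hU.fromSpec q) _ _ fun q hq => by
      have := congr($(IsAffineOpen.SpecMap_appLE_fromSpec f hV hU e) q)
      simp only [Set.mem_preimage, Set.mem_singleton_iff] at hq ⊢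
      rw [← hq]
      exact this.symm
  refine IsInducing.topologicalKrullDim_le (f := i) ?_
  exact IsInducing.subtypeVal.of_comp_iff.1 (hU.fromSpec.isOpenEmbedding.isInducing.comp IsInducing.subtypeVal)

end Groth.Agent.LeadDim
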